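import Groth.Agent.WeakNorm.AwnLoc
import Groth.Agent.S13831
import Groth.Agent.NormalNorm.Basic
import Mathlib

/-!
# The function field extension of a universal homeomorphism
-/

set_option autoImplicit false
set_option linter.style.haveILetI false
set_option backward.isDefEq.respectTransparency false
set_option maxHeartbeats 800000

universe u

open CategoryTheory CategoryTheory.Limits AlgebraicGeometry

namespace Groth.Agent.InsepFactor19240

variable {X Y : Scheme.{u}} [IsIntegral X] [IsIntegral Y] (u : X ⟶ Y)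
  (e : u (genericPoint X) = genericPoint Y)

/-- the map of function fields -/
noncomputable abbrev fieldMap : Y.functionField ⟶ X.functionField :=
  Y.presheaf.stalkSpecializes (specializes_of_eq e) ≫ u.stalkMap (genericPoint X)

theorem mem_of_nonempty_preimage (V : Y.Opens) [Nonempty (u ⁻¹ᵁ V : X.Opens)] : genericPoint X ∈ u ⁻¹ᵁ V := by
  obtain ⟨⟨x, hx⟩⟩ := ‹Nonempty (u ⁻¹ᵁ V : X.Opens)›
  exact ((genericPoint_spec X).mem_open_set_iff (u ⁻¹ᵁ V).isOpen).2 ⟨x, trivial, hx⟩

theorem fieldMap_germ (V : Y.Opens) (hV : genericPoint Y ∈ V) (hU : genericPoint X ∈ u ⁻¹ᵁ V) (r : Γ(Y, V)) :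
    fieldMap u e (Y.presheaf.germ V (genericPoint Y) hV r) =
      X.presheaf.germ (u ⁻¹ᵁ V) (genericPoint X) hU (u.app V r) := by
  show u.stalkMap (genericPoint X) (Y.presheaf.stalkSpecializes (specializes_of_eq e) (Y.presheaf.germ V _ hV r)) = _
  rw [TopCat.Presheaf.germ_stalkSpecializes_apply, Scheme.Hom.germ_stalkMap_apply]

/-- the map of function fields of a finite surjective morphism is finite -/
theorem finite_fieldMap [IsFinite u] :
    @Module.Finite Y.functionField X.functionField _ _ (fieldMap u e).hom.toAlgebra.toModule := by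
  obtain ⟨V, hV, hxV, -⟩ := exists_isAffineOpen_mem_and_subset (U := (⊤ : Y.Opens)) (x := genericPoint Y) trivial
  have hxU : genericPoint X ∈ u ⁻¹ᵁ V := by
    show u (genericPoint X) ∈ V
    rw [e]; exact hxV
  haveI : Nonempty V := ⟨⟨_, hxV⟩⟩
  haveI : Nonempty (u ⁻¹ᵁ V : X.Opens) := ⟨⟨_, hxU⟩⟩
  letI := (fieldMap u e).hom.toAlgebra
  letI := (u.app V).hom.toAlgebra
  haveI : Module.Finite Γ(Y, V) Γ(X, u ⁻¹ᵁ V) := u.finite_app V hV
  haveI := functionField_isFractionRing_of_isAffineOpen X (u ⁻¹ᵁ V) (hV.preimage u)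
  obtain ⟨s, hs⟩ := (Module.Finite.fg_top : (⊤ : Submodule Γ(Y, V) Γ(X, u ⁻¹ᵁ V)).FG)
  refine (S13831.finrank_le_of_frac (K := Y.functionField) (L := X.functionField) s hs
    (X.presheaf.germ (u ⁻¹ᵁ V) (genericPoint X) hxU).hom (fun r => ?_) fun z => ?_).1
  · exact ⟨Y.presheaf.germ V _ hxV r, fieldMap_germ u e V hxV hxU r⟩
  · obtain ⟨⟨x, y⟩, hxy⟩ := IsLocalization.surj (nonZeroDivisors Γ(X, u ⁻¹ᵁ V)) z
    exact ⟨x, y, (IsLocalization.map_units X.functionField y).ne_zero, hxy⟩

/-- some `p`-power of every element comes from below -/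
theorem exists_pow_mem [UniversallyInjective u] (p : ℕ) [Fact p.Prime] (hp : (p : Y.functionField) = 0)
    (z : X.functionField) : ∃ (m : ℕ) (y : Y.functionField), fieldMap u e y = z ^ p ^ m := by
  have hu : Function.Injective u ∧ ∀ x, (u.residueFieldMap x).hom.IsPurelyInseparable :=
    ((tfae_universallyInjective u).out 0 2 : UniversallyInjective u ↔ _).1 inferInstance
  let η := genericPoint X
  have hk : (p : Y.residueField (u η)) = 0 := by
    have h1 : (p : Y.presheaf.stalk (u η)) = 0 := by
      have h2 := congrArg (Y.presheaf.stalkSpecializes (specializes_of_eq e)).hom hp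
      erw [map_natCast, map_zero] at h2
      exact h2
    rw [← map_natCast (Y.residue (u η)).hom p, h1, map_zero]
  letI := (u.residueFieldMap η).hom.toAlgebra
  haveI : IsPurelyInseparable (Y.residueField (u η)) (X.residueField η) := hu.2 η
  haveI : CharP (Y.residueField (u η)) p := (CharP.charP_iff_prime_eq_zero Fact.out).2 hk
  haveI : ExpChar (Y.residueField (u η)) p := ExpChar.prime Fact.out
  obtain ⟨m, w, hw⟩ := IsPurelyInseparable.pow_mem (Y.residueField (u η)) p (X.residue η z)
  obtain ⟨w', rfl⟩ := IsLocalRing.residue_surjective (R := Y.presheaf.stalk (u η)) w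
  refine ⟨m, Y.presheaf.stalkSpecializes (specializes_of_eq e.symm) w', ?_⟩
  have h2 : fieldMap u e (Y.presheaf.stalkSpecializes (specializes_of_eq e.symm) w') = u.stalkMap η w' := by
    show u.stalkMap η ((Y.presheaf.stalkSpecializes (specializes_of_eq e.symm) ≫
      Y.presheaf.stalkSpecializes (specializes_of_eq e)) w') = _
    rw [TopCat.Presheaf.stalkSpecializes_comp, TopCat.Presheaf.stalkSpecializes_refl]
    rfl
  rw [h2]
  have hinj : Function.Injective (X.residue η) := RingHom.injective (R := X.functionField) (X.residue η).hom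
  refine hinj ?_
  rw [map_pow]
  refine Eq.trans ?_ hw
  exact (ConcreteCategory.congr_hom (Scheme.residue_residueFieldMap u η) w').symm

/-- the degree is a power of `p` and the corresponding Frobenius power lands below -/
theorem exists_degree [IsFinite u] [UniversallyInjective u] (p : ℕ) [Fact p.Prime]
    (hp : (p : Y.functionField) = 0) :
    ∃ n : ℕ, @Module.finrank Y.functionField X.functionField _ _ (fieldMap u e).hom.toAlgebra.toModule = p ^ n ∧
      ∀ z : X.functionField, ∃ y : Y.functionField, fieldMap u e y = z ^ p ^ n := by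
  letI := (fieldMap u e).hom.toAlgebra
  haveI : FiniteDimensional Y.functionField X.functionField := finite_fieldMap u e
  haveI : CharP Y.functionField p := (CharP.charP_iff_prime_eq_zero Fact.out).2 hp
  haveI : ExpChar Y.functionField p := ExpChar.prime Fact.out
  haveI : IsPurelyInseparable Y.functionField X.functionField :=
    (isPurelyInseparable_iff_pow_mem Y.functionField p).2 fun z => by
      obtain ⟨m, y, hy⟩ := exists_pow_mem u e p hp z
      exact ⟨m, y, hy⟩
  obtain ⟨n, hn⟩ := IsPurelyInseparable.finrank_eq_pow Y.functionField X.functionField p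
  refine ⟨n, hn, fun z => ?_⟩
  obtain ⟨m, y, hm⟩ := IsPurelyInseparable.minpoly_eq_X_pow_sub_C Y.functionField p z
  have hd : p ^ m ∣ p ^ n := by
    rw [← hn, ← Polynomial.natDegree_X_pow_sub_C (r := y) (n := p ^ m), ← hm]
    exact minpoly.degree_dvd (Algebra.IsIntegral.isIntegral z)
  have hmn : m ≤ n := (Nat.pow_dvd_pow_iff_le_right (Fact.out : p.Prime).one_lt).1 hd
  have h0 : z ^ p ^ m = fieldMap u e y := by
    have := minpoly.aeval Y.functionField z
    rw [hm, map_sub, map_pow, Polynomial.aeval_X, Polynomial.aeval_C, sub_eq_zero] at this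
    exact this
  refine ⟨y ^ p ^ (n - m), ?_⟩
  rw [map_pow, ← h0, ← pow_mul, ← pow_add, Nat.add_sub_cancel' hmn]

/-- sections over a nonempty affine open upstairs have their `p ^ n`-th powers downstairs -/
theorem exists_section [IsFinite u] (hY : Pi1.IsNormalScheme Y) (V : Y.Opens) (hV : IsAffineOpen V)
    (hU : genericPoint X ∈ u ⁻¹ᵁ V) (q : ℕ) (hq : ∀ z : X.functionField, ∃ y, fieldMap u e y = z ^ q) :
    Function.Injective (u.app V) ∧ ∀ b : Γ(X, u ⁻¹ᵁ V), ∃ r : Γ(Y, V), u.app V r = b ^ q := by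
  have hxV : genericPoint Y ∈ V := e ▸ hU
  haveI : Nonempty V := ⟨⟨_, hxV⟩⟩
  haveI : Nonempty (u ⁻¹ᵁ V : X.Opens) := ⟨⟨_, hU⟩⟩
  haveI := functionField_isFractionRing_of_isAffineOpen Y V hV
  haveI := NormalNorm.isIntegrallyClosed_of_normal hY hV
  have hgX : Function.Injective (X.presheaf.germ (u ⁻¹ᵁ V) (genericPoint X) hU) :=
    germ_injective_of_isIntegral X _ hU
  have hgY : Function.Injective (Y.presheaf.germ V (genericPoint Y) hxV) :=
    germ_injective_of_isIntegral Y _ hxV
  refine ⟨fun a b h => ?_, fun b => ?_⟩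
  · refine hgY ((fieldMap u e).hom.injective ?_)
    exact (fieldMap_germ u e V hxV hU a).trans ((congrArg _ h).trans (fieldMap_germ u e V hxV hU b).symm)
  obtain ⟨y, hy⟩ := hq (X.presheaf.germ (u ⁻¹ᵁ V) (genericPoint X) hU b)
  have hint : IsIntegral Γ(Y, V) y := by
    obtain ⟨P, hPm, hP⟩ := (IsIntegralHom.isIntegral_app (f := u) V hV) (b ^ q)
    refine ⟨P, hPm, (fieldMap u e).hom.injective ?_⟩
    rw [map_zero, Polynomial.hom_eval₂]
    have hcomp : (fieldMap u e).hom.comp (algebraMap Γ(Y, V) Y.functionField) =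
        (X.presheaf.germ (u ⁻¹ᵁ V) (genericPoint X) hU).hom.comp (u.app V).hom :=
      RingHom.ext fun r => fieldMap_germ u e V hxV hU r
    have hy' : (fieldMap u e).hom y = (X.presheaf.germ (u ⁻¹ᵁ V) (genericPoint X) hU).hom (b ^ q) :=
      hy.trans (map_pow _ _ _).symm
    rw [hcomp, hy', ← Polynomial.hom_eval₂, hP, map_zero]
  obtain ⟨r, hr⟩ := IsIntegrallyClosed.isIntegral_iff.1 hint
  refine ⟨r, hgX ?_⟩
  rw [map_pow]
  exact (fieldMap_germ u e V hxV hU r).symm.trans ((congrArg (fieldMap u e) hr).trans hy)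

end Groth.Agent.InsepFactor19240
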