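import Groth.Agent.InsepFactor19240.Field
import Groth.Agent.WeilLib.FrobPow
import Groth.Agent.FrobRadicial.Basic

/-!
# Factoring a Frobenius power through a universal homeomorphism
-/

set_option autoImplicit false
set_option linter.style.haveILetI false
set_option backward.isDefEq.respectTransparency false
set_option maxHeartbeats 800000

universe u

open CategoryTheory CategoryTheory.Limits AlgebraicGeometry FrobSch
open Groth.Agent.WeilLib (frobPow frobPow_comp frobPow_Spec)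

namespace Groth.Agent.InsepFactor19240

variable {X Y : Scheme.{u}} [IsIntegral X] [IsIntegral Y] (u : X ⟶ Y) (p : ℕ) [Fact p.Prime]
  [IsCharP X p]

/-- `g : T ⟶ X` behaves as the `p^n`-Frobenius divided by `u` along `t : T ⟶ Y`. -/
def IsFactor (n : ℕ) {T : Scheme.{u}} (t : T ⟶ Y) (g : T ⟶ X) : Prop :=
  ∀ ⦃T' : Scheme.{u}⦄ (a : T' ⟶ X) (b : T' ⟶ T), a ≫ u = b ≫ t → b ≫ g = a ≫ frobPow p X n

variable {u p}

theorem IsFactor.comp {n : ℕ} {T T₀ : Scheme.{u}} {t : T ⟶ Y} {g : T ⟶ X} (h : IsFactor u p n t g)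
    (c : T₀ ⟶ T) : IsFactor u p n (c ≫ t) (c ≫ g) := fun _ a b hab => by
  rw [← Category.assoc]
  exact h a (b ≫ c) (by rw [hab, Category.assoc])

theorem IsFactor.eq [Surjective u] [X.IsSeparated] {n : ℕ} {T : Scheme.{u}} [IsReduced T] {t : T ⟶ Y}
    {g g' : T ⟶ X} (h : IsFactor u p n t g) (h' : IsFactor u p n t g') : g = g' := by
  haveI : Surjective (pullback.fst t u) := MorphismProperty.pullback_fst _ _ inferInstance
  exact ext_of_isDominant (pullback.fst t u)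
    ((h _ _ pullback.condition.symm).trans (h' _ _ pullback.condition.symm).symm)

variable (u p)

/-- the factor over one affine open -/
theorem exists_local [IsFinite u] (e : u (genericPoint X) = genericPoint Y) (hY : Pi1.IsNormalScheme Y)
    (n : ℕ) (hn : ∀ z : X.functionField, ∃ y, fieldMap u e y = z ^ p ^ n)
    (V : Y.Opens) (hV : IsAffineOpen V) [Nonempty V] :
    ∃ g : Spec Γ(Y, V) ⟶ X, IsFactor u p n hV.fromSpec g := by
  have hxV : genericPoint Y ∈ V := by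
    obtain ⟨⟨y, hy⟩⟩ := ‹Nonempty V›
    exact ((genericPoint_spec Y).mem_open_set_iff V.isOpen).2 ⟨y, trivial, hy⟩
  have hxU : genericPoint X ∈ u ⁻¹ᵁ V := by
    show u (genericPoint X) ∈ V
    rw [e]; exact hxV
  have hU := hV.preimage u
  obtain ⟨hinj, hsec⟩ := exists_section u e hY V hV hxU (p ^ n) hn
  haveI : Nonempty (u ⁻¹ᵁ V : X.Opens) := ⟨⟨_, hxU⟩⟩
  haveI : CharP Γ(X, u ⁻¹ᵁ V) p := (CharP.charP_iff_prime_eq_zero Fact.out).2 (natCast_eq_zero_app X p _)
  haveI : ExpChar Γ(X, u ⁻¹ᵁ V) p := ExpChar.prime Fact.out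
  choose σ hσ using hsec
  let s : Γ(X, u ⁻¹ᵁ V) →+* Γ(Y, V) :=
    { toFun := σ
      map_one' := hinj (by rw [hσ, one_pow, map_one])
      map_mul' := fun a b => hinj (by rw [hσ, map_mul, hσ, hσ, mul_pow])
      map_zero' := hinj (by rw [hσ, zero_pow (pow_ne_zero _ (Fact.out : p.Prime).ne_zero), map_zero])
      map_add' := fun a b => hinj (by rw [hσ, map_add, hσ, hσ, add_pow_char_pow]) }
  haveI : IsCharP (Spec (CommRingCat.of Γ(X, u ⁻¹ᵁ V))) p := inferInstance
  have hs : CommRingCat.ofHom s ≫ u.app V = CommRingCat.ofHom (iterateFrobenius Γ(X, u ⁻¹ᵁ V) p n) := by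
    ext b
    show u.app V (σ b) = iterateFrobenius Γ(X, u ⁻¹ᵁ V) p n b
    rw [hσ, iterateFrobenius_def]
  refine ⟨Spec.map (CommRingCat.ofHom s) ≫ hU.fromSpec, fun T' a b hab => ?_⟩
  have hr : Set.range a ⊆ Set.range hU.fromSpec := by
    rw [hU.range_fromSpec]
    rintro _ ⟨z, rfl⟩
    show u (a z) ∈ V
    have h1 : (a ≫ u) z = (b ≫ hV.fromSpec) z := congrArg (fun φ : T' ⟶ Y => φ z) hab
    rw [Scheme.Hom.comp_apply, Scheme.Hom.comp_apply] at h1
    rw [h1]
    show hV.fromSpec (b z) ∈ (V : Set Y)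
    rw [← hV.range_fromSpec]
    exact ⟨_, rfl⟩
  obtain ⟨a', rfl⟩ : ∃ a', a' ≫ hU.fromSpec = a := ⟨_, IsOpenImmersion.lift_fac hU.fromSpec a hr⟩
  have h2 : Spec.map (u.app V) ≫ hV.fromSpec = hU.fromSpec ≫ u := by
    rw [← IsAffineOpen.SpecMap_appLE_fromSpec u hV hU le_rfl, Scheme.Hom.appLE_eq_app]
  have h3 : b = a' ≫ Spec.map (u.app V) := by
    rw [← cancel_mono hV.fromSpec, ← hab, Category.assoc, Category.assoc, h2]
  have h4 : frobPow p (Spec (CommRingCat.of Γ(X, u ⁻¹ᵁ V))) n =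
      Spec.map (u.app V) ≫ Spec.map (CommRingCat.ofHom s) := by
    rw [frobPow_Spec, ← Spec.map_comp, hs]
  rw [h3, Category.assoc, Category.assoc, ← frobPow_comp p hU.fromSpec n]
  exact congrArg (fun φ => a' ≫ φ) ((Category.assoc _ _ _).symm.trans
    (congrArg (fun φ => φ ≫ hU.fromSpec) h4.symm))

/-- the `p^n`-Frobenius of `X` factors through `u` -/
theorem exists_factor [IsFinite u] [Surjective u] [X.IsSeparated] (e : u (genericPoint X) = genericPoint Y)
    (hY : Pi1.IsNormalScheme Y) (n : ℕ) (hn : ∀ z : X.functionField, ∃ y, fieldMap u e y = z ^ p ^ n) :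
    ∃ w : Y ⟶ X, u ≫ w = frobPow p X n := by
  have hc : ∀ y : Y, ∃ V : Y.Opens, IsAffineOpen V ∧ y ∈ V := fun y => by
    obtain ⟨V, hV, hy, -⟩ := exists_isAffineOpen_mem_and_subset (U := (⊤ : Y.Opens)) (x := y) trivial
    exact ⟨V, hV, hy⟩
  choose V hV hyV using hc
  have hg : ∀ y : Y, ∃ g : (V y).toScheme ⟶ X, IsFactor u p n (V y).ι g := fun y => by
    haveI : Nonempty (V y) := ⟨⟨y, hyV y⟩⟩
    obtain ⟨g, hg⟩ := exists_local u p e hY n hn (V y) (hV y)
    refine ⟨(hV y).isoSpec.hom ≫ g, ?_⟩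
    have := hg.comp (hV y).isoSpec.hom
    rwa [(hV y).isoSpec_hom_fromSpec] at this
  choose g hg using hg
  let 𝒰 : Y.OpenCover := Y.openCoverOfIsOpenCover V
    (.mk (eq_top_iff.2 fun y _ => TopologicalSpace.Opens.mem_iSup.2 ⟨y, hyV y⟩))
  have hcompat : ∀ i j : Y, pullback.fst (V i).ι (V j).ι ≫ g i = pullback.snd (V i).ι (V j).ι ≫ g j := by
    intro i j
    haveI : IsReduced (pullback (V i).ι (V j).ι) :=
      isReduced_of_isOpenImmersion (pullback.fst (V i).ι (V j).ι ≫ (V i).ι)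
    refine IsFactor.eq ((hg i).comp (pullback.fst _ _)) ?_
    rw [pullback.condition]
    exact (hg j).comp _
  let w := 𝒰.glueMorphisms g hcompat
  have hw : ∀ i : Y, (V i).ι ≫ w = g i := fun i => 𝒰.ι_glueMorphisms g hcompat i
  refine ⟨w, ?_⟩
  let 𝒲 : X.OpenCover := X.openCoverOfIsOpenCover (fun i => u ⁻¹ᵁ V i)
    (.mk (eq_top_iff.2 fun x _ => TopologicalSpace.Opens.mem_iSup.2 ⟨u x, hyV (u x)⟩))
  refine Scheme.Cover.hom_ext 𝒲 _ _ fun i => ?_
  show (u ⁻¹ᵁ V i).ι ≫ u ≫ w = (u ⁻¹ᵁ V i).ι ≫ frobPow p X n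
  rw [← morphismRestrict_ι_assoc, hw i]
  exact hg i _ _ (morphismRestrict_ι u (V i)).symm

/-- cancellation of `u` -/
theorem eq_of_comp {Z : Scheme.{u}} [Z.IsSeparated] [Surjective u] {f f' : Y ⟶ Z} (h : u ≫ f = u ≫ f') :
    f = f' :=
  ext_of_isDominant u h

end Groth.Agent.InsepFactor19240
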